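import Cfsg.Agent.H0.TC
set_option maxRecDepth 100000
namespace H0.TCM232
open H0
noncomputable def r0 : TC.WTr := (.node (.node (.node (.node (.node (.node (.leaf [1] 0 0 false) (.leaf [11] 10 0 false)) (.leaf [6, 8, 6, 4, 7, 7] 28 5 true)) (.node (.node (.leaf [3] 2 0 false) (.leaf [13, 13] 14 0 true)) (.leaf [8] 8 0 false))) (.node (.node (.node (.leaf [4, 0, 2] 43 3 true) (.leaf [13] 12 0 false)) (.leaf [7] 6 0 false)) (.node (.leaf [5] 4 0 false) (.leaf [4, 0, 11, 9, 1, 5, 12] 54 2 true)))) (.node (.node (.node (.node (.leaf [1] 0 0 false) (.leaf [2, 7, 9, 4, 7, 1] 52 5 true)) (.leaf [7] 6 0 false)) (.node (.leaf [7, 3, 7, 9] 48 0 false) (.leaf [11, 8, 11, 8, 11] 19 1 true))) (.node (.node (.node (.leaf [3] 2 0 false) (.leaf [13] 12 0 false)) (.leaf [1, 2, 1, 3, 0, 3] 44 6 false)) (.node (.leaf [13, 4, 13] 34 0 false) (.leaf [11] 10 0 false))))) (.node (.node (.node (.node (.node (.leaf [6, 2,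 1, 2, 0, 3] 44 6 true) (.leaf [10] 10 1 false)) (.leaf [11, 7, 8, 6] 38 1 false)) (.node (.node (.leaf [2] 2 1 false) (.leaf [6, 12, 10, 6, 11] 39 2 false)) (.leaf [12, 8, 10] 16 3 true))) (.node (.node (.node (.leaf [0] 0 1 false) (.leaf [9, 13, 11, 9, 10] 25 3 false)) (.leaf [6] 6 1 false)) (.node (.leaf [3, 5, 0, 9, 4, 7] 53 6 false) (.leaf [4, 7, 1, 11, 2, 7] 52 1 true)))) (.node (.node (.node (.node (.leaf [0] 0 1 false) (.leaf [10] 10 1 false)) (.leaf [6, 6, 6] 27 0 false)) (.node (.leaf [2] 2 1 false) (.leaf [9] 9 0 false))) (.node (.node (.node (.leaf [1, 2, 0, 3, 0, 6] 44 1 true) (.leaf [12] 12 1 false)) (.leaf [6] 6 1 false)) (.node (.leaf [4] 4 1 false) (.leaf [8, 12, 8] 16 2 true))))))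
noncomputable def r1 : TC.WTr := (.node (.node (.node (.node (.node (.node (.leaf [0, 0, 0] 41 0 false) (.leaf [11] 10 0 false)) (.leaf [6, 6, 11] 30 0 false)) (.node (.node (.leaf [3] 2 0 false) (.leaf [4, 0, 9, 10, 1, 5, 9] 54 6 false)) (.leaf [7, 4, 6, 6, 5, 7] 28 6 false))) (.node (.node (.node (.leaf [0] 0 1 false) (.leaf [12, 12] 14 0 false)) (.leaf [7] 6 0 false)) (.node (.leaf [10, 9, 11, 8, 5, 9] 36 2 false) (.leaf [5, 11, 9, 10, 8, 4] 37 1 false)))) (.node (.node (.node (.node (.leaf [1] 0 0 false) (.leaf [10] 10 1 false)) (.leaf [10, 4, 7, 8] 38 1 true)) (.node (.leaf [5, 0, 9, 4, 7, 4] 53 0 false) (.leaf [8] 8 0 false))) (.node (.node (.node (.leaf [0, 3, 0, 6, 2, 1] 44 3 true) (.leaf [13] 12 0 false)) (.leaf [12, 10, 7, 11, 13] 39 2 true)) (.node (.leaf [5] 4 0 false) (.leaf [1, 5, 9, 13, 4, 0, 9] 54 2 false))))) (.node (.node (.node (.node (.node (.leaf [6, 5, 9, 6, 3, 10] 52 2 false)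 (.leaf [8, 7, 0, 12, 0] 49 3 false)) (.leaf [4] 4 1 false)) (.node (.node (.leaf [3, 3] 42 0 true) (.leaf [12] 12 1 false)) (.leaf [4, 9, 5, 11, 9, 10] 37 6 false))) (.node (.node (.node (.leaf [0] 0 1 false) (.leaf [0, 11, 8, 7, 0] 49 1 false)) (.leaf [0, 4, 7, 0, 4] 51 1 true)) (.node (.leaf [7, 0, 4, 7, 0] 51 0 true) (.leaf [11, 9, 11, 9, 11] 22 1 true)))) (.node (.node (.node (.node (.leaf [6, 8, 10, 1, 13] 49 5 true) (.leaf [10] 10 1 false)) (.leaf [12, 10, 6, 11, 13] 39 3 false)) (.node (.leaf [2] 2 1 false) (.leaf [13, 4, 0, 9, 10, 1, 5] 54 5 false))) (.node (.node (.node (.leaf [7, 9, 4, 7, 1, 11] 52 6 true) (.leaf [7, 4, 7, 9, 6] 40 1 false)) (.leaf [6] 6 1 false)) (.node (.leaf [5, 5] 26 0 true) (.leaf [9, 10, 9, 10, 9] 22 1 false))))))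
noncomputable def r2 : TC.WTr := (.node (.node (.node (.node (.node (.node (.leaf [2, 1, 4] 43 1 true) (.leaf [11] 10 0 false)) (.leaf [8, 1, 5, 8, 1] 50 1 false)) (.node (.node (.leaf [3] 2 0 false) (.leaf [7, 12, 10, 7, 11] 39 1 true)) (.leaf [6, 5, 11, 7] 38 4 false))) (.node (.node (.node (.leaf [13, 1, 6, 8, 10] 49 3 true) (.leaf [5, 12, 5] 34 0 true)) (.leaf [7] 6 0 false)) (.node (.leaf [0, 8, 4, 0, 8] 50 1 true) (.leaf [6, 13, 7, 4, 7] 40 5 false)))) (.node (.node (.node (.node (.leaf [1] 0 0 false) (.leaf [4, 8, 5, 13] 35 4 false)) (.leaf [2, 1, 2, 0, 3, 0] 44 0 true)) (.node (.leaf [0, 6, 2, 1, 2, 0] 44 5 true) (.leaf [11, 8, 13] 16 0 false))) (.node (.node (.node (.leaf [6, 2, 9, 6] 48 2 true) (.leaf [13] 12 0 false)) (.leaf [8, 6, 5, 11] 38 3 false)) (.node (.leaf [5] 4 0 false) (.leaf [0, 6, 5, 9, 6, 3] 52 1 false))))) (.node (.node (.node (.node (.node (.leaf [11, 9, 1, 5, 12, 9, 4]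 54 4 true) (.leaf [5, 6, 6] 30 3 false)) (.leaf [4] 4 1 false)) (.node (.node (.leaf [1, 5, 0] 43 1 false) (.leaf [8, 11, 8] 16 3 false)) (.leaf [5, 10, 12, 4] 35 3 true))) (.node (.node (.node (.leaf [0] 0 1 false) (.leaf [4, 8, 5, 10] 35 1 true)) (.leaf [3, 7, 9, 3] 48 1 false)) (.node (.leaf [7, 8, 6, 10] 38 3 true) (.leaf [4, 10, 9, 11, 8, 5] 36 1 false)))) (.node (.node (.node (.node (.leaf [5, 0, 3] 43 2 false) (.leaf [10] 10 1 false)) (.leaf [6, 5, 7, 8, 7, 4] 28 2 false)) (.node (.leaf [2] 2 1 false) (.leaf [3, 7, 3, 7] 48 4 false))) (.node (.node (.node (.leaf [5, 6, 5, 9, 1, 4] 53 6 true) (.leaf [1, 6, 8, 10, 1] 49 4 true)) (.leaf [6] 6 1 false)) (.node (.leaf [0, 9, 4, 7, 4, 3] 53 1 false) (.leaf [7, 7, 4] 30 0 true))))))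
noncomputable def r3 : TC.WTr := (.node (.node (.node (.node (.node (.node (.leaf [3, 1, 5] 43 0 false) (.leaf [11] 10 0 false)) (.leaf [8, 11, 9, 10, 4, 9] 37 6 true)) (.node (.node (.leaf [3] 2 0 false) (.leaf [11, 4, 8, 5] 35 3 false)) (.leaf [9, 8, 9] 17 0 false))) (.node (.node (.node (.leaf [0] 0 1 false) (.leaf [8, 10, 8] 16 0 true)) (.leaf [7] 6 0 false)) (.node (.leaf [2, 5, 6, 5, 9, 1] 53 5 true) (.leaf [10, 9, 10, 9, 10] 22 0 false)))) (.node (.node (.node (.node (.leaf [1] 0 0 false) (.leaf [10] 10 1 false)) (.leaf [2, 9, 6, 2] 48 3 true)) (.node (.leaf [2] 2 1 false) (.leaf [8] 8 0 false))) (.node (.node (.node (.leaf [2, 2] 42 0 false) (.leaf [13] 12 0 false)) (.leaf [6] 6 1 false)) (.node (.leaf [5] 4 0 false) (.leaf [10, 10] 15 0 false))))) (.node (.node (.node (.node (.node (.leaf [8, 4, 0, 8, 4] 50 2 true) (.leaf [11, 11] 15 0 true)) (.leaf [4] 4 1 false)) (.node (.node (.leaf [0,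 3, 7, 1, 2, 1] 44 3 false) (.leaf [12] 12 1 false)) (.leaf [5, 13, 11, 4] 35 1 false))) (.node (.node (.node (.leaf [0] 0 1 false) (.leaf [9, 4, 0, 11, 9, 1, 5] 54 1 true)) (.leaf [7, 4, 10] 30 1 true)) (.node (.leaf [4, 4] 26 0 false) (.leaf [10, 12, 9, 13, 11] 25 1 false)))) (.node (.node (.node (.node (.leaf [3, 0, 3, 7, 1, 2] 44 2 false) (.leaf [10] 10 1 false)) (.leaf [7] 6 0 false)) (.node (.leaf [2] 2 1 false) (.leaf [6, 2, 6, 2] 48 0 true))) (.node (.node (.node (.leaf [3] 2 0 false) (.leaf [4, 13, 4] 34 1 false)) (.leaf [6] 6 1 false)) (.node (.leaf [13, 11, 4, 8] 35 2 false) (.leaf [11] 10 0 false))))))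
noncomputable def tS : Tr := (.leaf (nat_lit 0x3ff6b432735e2769b25d5ed8c1ada7e8a9d25fffd1497a1f0625f8d6119464a97e7d6b24ba2bff929927ee359261f7bdff060ce74e328f986ffd8b5da1e825b58cd81618e42ad5c6141856fff848c805c437c9c67c58e848f6926125ae30ffd9c2d10117a0805cdd17d0c308f136cf432bff819f16616d749cd7620860e211301791debffd326cde97a9bb7792e415084c417188e142fff331480585f7dc976820a3211e56d7668544ffce24ac7510016264783311e2d1765c576517ff1b46f1e1011bc16831f125c41414e156cc0ffd97735586c9572191e059cd5ccf63c5324b7ff14dad6216e6a49c0591e65d827312d81956ffc95252052654430a1f6804505943a791a8d3ff1786d215db220b31046b0585b6a9bf5b58affd1c8211b3d99736674204b78ca087d416107ff168881902c71cb40b6350b0b20b4001b458ffdb64e43d87c4215c9810cce0f00010cb20efff0ac8510c3a6c4391685a178430e03716400ffcaf1045f0d8350d0330c8310c02b100000bfff00000000000000000000000000641805c16))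
noncomputable def tJ : Tr := (.leaf (nat_lit 0x60094281693180801840501001c14829900218a028127201271160731401080060050620406282025800568ce4180e5000a6400430100d008000046310004184000800813405180e00180000ca0680005800070c04000001800048000009c3008c2080034008000c4e0006100800300c0100020380400c803800000000710030100420002000650004e000472806008400101c008000080a30148000480201c210040004c008020134011800000021000006802000021000a0180000000d080000000000000081a00018c6318c6318c00000))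
noncomputable def tQ : Tr := (.leaf (nat_lit 0x0))
noncomputable def tR : TC.WTr := (.node (.node r0 r1) (.node r2 r3))
def hl : List ℕ := [4, 5, 5, 4, 6, 7, 7, 6, 8, 9, 10, 11, 11, 10, 12, 13, 13, 12]
def B : List (List ℕ) := [[0, 1], [1, 0], [2, 3], [3, 2], [4, 5], [5, 4], [6, 7], [7, 6], [8, 8], [9, 9], [10, 11], [11, 10], [12, 13], [13, 12], [12, 12, 12], [10, 10, 10], [8, 11, 8, 13], [8, 9, 8, 9], [8, 9, 8, 9], [8, 10, 8, 10, 8, 10], [8, 10, 8, 11, 8, 10, 8, 11], [8, 11, 8, 11, 8, 11], [9, 10, 9, 10, 9, 10], [9, 10, 9, 11, 9, 10, 9, 11], [9, 11, 9, 11, 9, 11], [11, 9, 10, 12, 9, 13], [4, 4, 4], [6, 6, 6, 6], [7, 4, 6, 6, 5, 7, 8], [4, 7, 4, 6, 4, 6, 5, 6, 9], [5, 6, 6, 11], [4, 6, 4, 6, 4, 6, 4, 6, 4, 6], [4, 6, 5, 7, 4, 6, 5, 7, 4, 6, 5, 7, 4, 6, 5, 7, 4, 6, 5, 7], [4, 7, 4, 7, 4, 7, 4, 7, 4, 7], [4, 13, 4, 13], [4, 8, 5, 13, 11], [5, 9, 4, 10, 9, 11, 8], [4, 9, 5, 11, 9, 10, 8], [6, 5, 11,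 7, 8], [6, 11, 13, 6, 12, 10], [6, 13, 7, 4, 7, 9], [0, 0, 0, 0], [2, 2, 2], [0, 3, 1, 5], [1, 2, 1, 3, 0, 3, 7], [0, 2, 0, 2, 0, 2, 0, 2, 0, 2, 0, 2, 0, 2], [0, 2, 1, 3, 0, 2, 1, 3, 0, 2, 1, 3, 0, 2, 1, 3, 0, 2, 1, 3], [0, 3, 0, 3, 0, 3, 0, 3, 0, 3], [3, 7, 3, 7, 9], [0, 12, 0, 11, 8, 7], [1, 5, 8, 1, 5, 8], [1, 6, 5, 1, 6, 5], [3, 10, 0, 6, 5, 9, 6], [3, 5, 0, 9, 4, 7, 4], [0, 9, 10, 1, 5, 9, 13, 4]]
def subs : List (List ℕ) := [[4], [5], [6], [7], [8], [9], [10], [11], [12], [13]]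
def ex : List (List ℕ) := []
def inv (x : ℕ) : ℕ := [1, 0, 3, 2, 5, 4, 7, 6, 8, 9, 11, 10, 13, 12].getD x 0
noncomputable def rS : ℕ → ℕ := rowOf tS (nat_lit 7) (nat_lit 127) (nat_lit 150) (nat_lit 1427247692705959881058285969449495136382746623)
noncomputable def rJ : ℕ → ℕ := rowOf tJ (nat_lit 7) (nat_lit 127) (nat_lit 80) (nat_lit 1208925819614629174706175)
noncomputable def C : TC.Cfg where
  S := look rS (nat_lit 10) (nat_lit 1023)
  J := look rJ (nat_lit 5) (nat_lit 31)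
  Q := lookQ tQ (nat_lit 7) (nat_lit 1) (nat_lit 1)
  R := tR.get
  hl := fun x => hl.contains x
  n := (nat_lit 21)
  M := (nat_lit 21)
  top := (nat_lit 672)
  nl := (nat_lit 14)
  need := (nat_lit 14)
  nr := (nat_lit 12)
theorem k0 : TC.chkRange C 0 1 = true := by decide +kernel
theorem rows0 : ∀ c < (0 + 1) * 64, c < C.M → TC.chkRow C c = true :=
  TC.rows_step (TC.rows_zero C) k0
theorem main {G : Type*} [Group G] (g : ℕ → G) (hB : ∀ r ∈ B, ev g r = 1) (H : Subgroup G)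
    (hH : ∀ w ∈ subs, ev g w ∈ H) :
    H.relIndex (Subgroup.closure (g '' {x | x < 14})) ≠ 0 ∧
      H.relIndex (Subgroup.closure (g '' {x | x < 14})) ≤ 21 :=
  TC.index_le C B subs ex inv hl tR.hint rfl (by decide +kernel) (by decide +kernel)
    (TC.rows_done rows0 (by decide +kernel)) g hB H hH
end H0.TCM232
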